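import Cfsg.Agent.Helper61.Sr.Defs
import Cfsg.Agent.Helper61.DihMain

/-!
# Schur partitions: basic lemmas (S3572)
-/

set_option autoImplicit false
set_option linter.unusedSectionVars false
set_option linter.unusedVariables false

namespace Cfsg.Agent.Helper61.Sr

open Finset DihedralGroup Cfsg.Agent.Helper61.Dih

/-! ## Part G: general S-ring lemmas -/
section General

variable {H : Type*} [Group H] [Fintype H] [DecidableEq H] (S : SRing H)

theorem mem_cls (x y : H) : y ∈ S.cls x ↔ S.rel x y := by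
  classical
  simp [SRing.cls]

theorem isSet_cls (x : H) : S.IsSet (S.cls x) := by
  intro a b hab
  rw [mem_cls, mem_cls]
  exact ⟨fun h => S.trans h hab, fun h => S.trans h (S.symm hab)⟩

theorem self_mem_cls (x : H) : x ∈ S.cls x := (mem_cls S x x).mpr (S.refl x)

theorem one_notMem_cls {x : H} (hx : x ≠ 1) : (1 : H) ∉ S.cls x := by
  rw [mem_cls]
  intro h
  exact hx (S.one_rel h)

theorem inv_ind {T : Finset H} (hT : S.IsSet T) : S.Inv (ind T) := by
  intro x y hxy
  rw [coeff_ind, coeff_ind]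
  have := hT x y hxy
  by_cases hx : x ∈ T
  · rw [if_pos hx, if_pos (this.mp hx)]
  · rw [if_neg hx, if_neg (fun h => hx (this.mpr h))]

theorem isSet_filter {f : MonoidAlgebra ℤ H} (hf : S.Inv f) (φ : ℤ → Prop) [DecidablePred φ] :
    S.IsSet (univ.filter fun y => φ (f.coeff y)) := by
  intro x y hxy
  simp only [mem_filter, mem_univ, true_and]
  rw [hf x y hxy]

theorem inv_mul {f g : MonoidAlgebra ℤ H} (hf : S.Inv f) (hg : S.Inv g) : S.Inv (f * g) :=
  S.mul_inv f g hf hg

theorem inv_one : S.Inv (1 : MonoidAlgebra ℤ H) := by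
  intro x y hxy
  rw [MonoidAlgebra.one_def, MonoidAlgebra.coeff_single, Finsupp.single_apply, Finsupp.single_apply]
  by_cases hx : x = 1
  · subst hx
    have : y = 1 := S.one_rel (S.symm hxy)
    subst this
    rfl
  · have hy : y ≠ 1 := fun h => hx (S.one_rel (h ▸ hxy))
    rw [if_neg (Ne.symm hx), if_neg (Ne.symm hy)]

theorem inv_pow {f : MonoidAlgebra ℤ H} (hf : S.Inv f) (m : ℕ) : S.Inv (f ^ m) := by
  induction m with
  | zero => rw [pow_zero]; exact inv_one S
  | succ m ih => rw [pow_succ]; exact inv_mul S ih hf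

theorem isSet_union {T T' : Finset H} (hT : S.IsSet T) (hT' : S.IsSet T') : S.IsSet (T ∪ T') := by
  intro x y hxy
  simp only [mem_union, hT x y hxy, hT' x y hxy]

theorem isSet_sdiff {T T' : Finset H} (hT : S.IsSet T) (hT' : S.IsSet T') : S.IsSet (T \ T') := by
  intro x y hxy
  simp only [mem_sdiff, hT x y hxy, hT' x y hxy]

theorem isSet_univ : S.IsSet (univ : Finset H) := fun x y _ => by simp

theorem isSet_one : S.IsSet ({1} : Finset H) := by
  intro x y hxy
  simp only [mem_singleton]
  constructor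
  · rintro rfl; exact S.one_rel (S.symm hxy)
  · rintro rfl; exact S.one_rel hxy

theorem isSet_erase_one {T : Finset H} (hT : S.IsSet T) : S.IsSet (T.erase 1) := by
  rw [← sdiff_singleton_eq_erase]
  exact isSet_sdiff S hT (isSet_one S)

theorem isSet_insert_one {T : Finset H} (hT : S.IsSet T) : S.IsSet (insert 1 T) := by
  rw [insert_eq]
  exact isSet_union S (isSet_one S) hT

theorem isSet_biUnion {ι : Type*} [DecidableEq ι] (s : Finset ι) (F : ι → Finset H)
    (hF : ∀ i ∈ s, S.IsSet (F i)) : S.IsSet (s.biUnion F) := by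
  intro x y hxy
  simp only [mem_biUnion]
  constructor
  · rintro ⟨i, hi, hx⟩; exact ⟨i, hi, (hF i hi x y hxy).mp hx⟩
  · rintro ⟨i, hi, hx⟩; exact ⟨i, hi, (hF i hi x y hxy).mpr hx⟩

theorem coeff_ind_mul_ind (T T' : Finset H) (y : H) :
    (ind T * ind T').coeff y = ((T.filter fun c => c⁻¹ * y ∈ T').card : ℤ) := by
  unfold ind
  rw [Finset.sum_mul_sum]
  simp only [MonoidAlgebra.single_mul_single, mul_one, MonoidAlgebra.coeff_sum,
    Finsupp.finsetSum_apply, MonoidAlgebra.coeff_single, Finsupp.single_apply]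
  rw [Finset.card_filter, Nat.cast_sum]
  apply Finset.sum_congr rfl
  intro c hc
  have : ∀ x : H, (c * x = y) ↔ (x = c⁻¹ * y) := by
    intro x
    constructor
    · rintro rfl; rw [inv_mul_cancel_left]
    · rintro rfl; rw [mul_inv_cancel_left]
  simp only [this]
  rw [Finset.sum_ite_eq']
  push_cast
  rfl

end General

section Dihedral

variable {n : ℕ} [NeZero n] (S : SRing (DihedralGroup n))

/-- the subgroup of rotations `r u` with `p • u = 0` -/
def torP (n : ℕ) (p : ℕ) : Subgroup (DihedralGroup n) where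
  carrier := {g | ∃ u : ZMod n, p • u = 0 ∧ g = r u}
  mul_mem' := by
    rintro _ _ ⟨u, hu, rfl⟩ ⟨v, hv, rfl⟩
    exact ⟨u + v, by rw [smul_add, hu, hv, add_zero], by rw [r_mul_r]⟩
  one_mem' := ⟨0, smul_zero _, rfl⟩
  inv_mem' := by
    rintro _ ⟨u, hu, rfl⟩
    exact ⟨-u, by rw [smul_neg, hu, neg_zero], by rw [inv_r]⟩

theorem mem_torP {p : ℕ} {g : DihedralGroup n} : g ∈ torP n p ↔ ∃ u : ZMod n, p • u = 0 ∧ g = r u :=
  Iff.rfl

/-- generators of the fusion relation -/
def fusGen (p : ℕ) (x y : DihedralGroup n) : Prop :=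
  S.rel x y ∨ ∃ j u : ZMod n, p • u = 0 ∧ x = sr j ∧ y = sr (j + u)

/-- the fusion relation -/
def fusRel (p : ℕ) : DihedralGroup n → DihedralGroup n → Prop := Relation.EqvGen (fusGen S p)

end Dihedral

/-- the orbit relation of the stabilizer of `1` -/
def orbRel (G : Type*) [Group G] {H : Type*} [Group H] [MulAction G H] (x y : H) : Prop :=
  ∃ g ∈ MulAction.stabilizer G (1 : H), g • x = y

end Cfsg.Agent.Helper61.Sr
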