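import Mathlib
import Cfsg.Agent.Helper61.DihDefs

/-!
# Schur partitions (S-rings) over a finite group: definitions

Used for Wielandt's theorem that dihedral groups are B-groups (S3572).  An S-ring over `H` is
given by its partition of `H` into basic sets, encoded as an equivalence relation `rel`; the
S-ring itself is the set of elements of `ℤ[H]` whose coefficient function is constant on the
classes (`SRing.Inv`).
-/

set_option autoImplicit false

namespace Cfsg.Agent.Helper61.Sr

open Finset DihedralGroup Cfsg.Agent.Helper61.Dih

/-- A Schur partition of the group `H`: an equivalence relation on `H` such that `{1}` is a class,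
the classes are permuted by inversion, and the elements of `ℤ[H]` constant on classes are closed
under multiplication. -/
structure SRing (H : Type*) [Group H] where
  /-- the partition into basic sets -/
  rel : H → H → Prop
  refl : ∀ x, rel x x
  symm : ∀ {x y}, rel x y → rel y x
  trans : ∀ {x y z}, rel x y → rel y z → rel x z
  one_rel : ∀ {x}, rel x 1 → x = 1
  inv_rel : ∀ {x y}, rel x y → rel x⁻¹ y⁻¹
  mul_inv : ∀ f g : MonoidAlgebra ℤ H, (∀ x y, rel x y → f.coeff x = f.coeff y) →
    (∀ x y, rel x y → g.coeff x = g.coeff y) →
    ∀ x y, rel x y → (f * g).coeff x = (f * g).coeff y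

namespace SRing

variable {H : Type*} [Group H] (S : SRing H)

/-- `f ∈ ℤ[H]` lies in the S-ring: its coefficients are constant on the basic sets. -/
def Inv (f : MonoidAlgebra ℤ H) : Prop := ∀ x y, S.rel x y → f.coeff x = f.coeff y

/-- `T` is an `S`-set: a union of basic sets. -/
def IsSet (T : Finset H) : Prop := ∀ x y, S.rel x y → (x ∈ T ↔ y ∈ T)

/-- primitivity: every nonempty `S`-set avoiding `1` generates `H`. -/
def IsPrim : Prop :=
  ∀ T : Finset H, S.IsSet T → T.Nonempty → (1 : H) ∉ T → Subgroup.closure (T : Set H) = ⊤

/-- the trivial S-ring: `H \ {1}` is a single basic set. -/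
def IsTriv : Prop := ∀ x y : H, x ≠ 1 → y ≠ 1 → S.rel x y

/-- the basic set of `x` -/
noncomputable def cls [Fintype H] (x : H) : Finset H := by
  classical exact univ.filter (fun y => S.rel x y)

end SRing

section Dihedral

variable {n : ℕ} [NeZero n]

/-- `A ⊆ ZMod n` is a union of cosets of the `p`-torsion subgroup. -/
def Per (p : ℕ) (A : Finset (ZMod n)) : Prop :=
  ∀ x u : ZMod n, p • u = 0 → (x ∈ A ↔ x + u ∈ A)

/-- `A ⊆ ZMod n` is a union of cosets of the `p`-torsion subgroup outside that subgroup. -/
def PerOff (p : ℕ) (A : Finset (ZMod n)) : Prop :=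
  ∀ x u : ZMod n, p • u = 0 → p • x ≠ 0 → (x ∈ A ↔ x + u ∈ A)

/-- the reflection coefficients of `f` are periodic under the `p`-torsion subgroup. -/
def RefPer (p : ℕ) (f : MonoidAlgebra ℤ (DihedralGroup n)) : Prop :=
  ∀ j u : ZMod n, p • u = 0 → f.coeff (sr j) = f.coeff (sr (j + u))

/-- `A ⊆ ZMod n` is closed under multiplication by the units of `ZMod n`. -/
def Rational (A : Finset (ZMod n)) : Prop :=
  ∀ u : (ZMod n)ˣ, ∀ x ∈ A, (u : ZMod n) * x ∈ A

/-- `T` is a (reversible) difference set with parameter `lam`: every non-identity element is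
`lam` times a product of two elements of `T`. -/
def IsDs (T : Finset (DihedralGroup n)) (lam : ℕ) : Prop :=
  ∀ y : DihedralGroup n, y ≠ 1 → (ind T * ind T).coeff y = (lam : ℤ)

end Dihedral

end Cfsg.Agent.Helper61.Sr
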