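import Cfsg.Agent.Helper61.Sr.Basic
import Cfsg.Agent.Helper10.Sr.RAT_of
import Cfsg.Agent.Helper29.Sr.DS1
import Cfsg.Agent.Helper29.Sr.DS48
import Cfsg.Agent.Helper31.SrE2
import Cfsg.Agent.Helper31.SrO1
import Cfsg.Agent.Helper33.Sr.DS23
import Cfsg.Agent.Helper33.Sr.DS5
import Cfsg.Agent.Helper41.Sr.D12
import Cfsg.Agent.Helper41.Sr.F2
import Cfsg.Agent.Helper47.Sr.QfalseCore
import Cfsg.Agent.Helper49.SrG3
import Cfsg.Agent.Helper49.SrO3
import Cfsg.Agent.Helper49.SrT5c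
import Cfsg.Agent.Helper59.SrO2
import Cfsg.Agent.Helper59.SrO5
import Cfsg.Agent.Helper67.SrFref
import Cfsg.Agent.Helper67.SrM12
import Cfsg.Agent.Helper69.Sr.DS7
import Cfsg.Agent.Helper69.Sr.NT
import Cfsg.Agent.Helper69.Sr.NT4
import Cfsg.Agent.Helper70.Sr.U12
import Cfsg.Agent.Helper70.Sr.U3
import Cfsg.Agent.Helper70.Sr.U4
import Cfsg.Agent.Helper73.Sr.O4
import Cfsg.Agent.Helper86.Sr.DS6
import Cfsg.Agent.Helper86.Sr.N8
import Cfsg.Agent.Helper86.Sr.Qcore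
import Cfsg.Agent.Helper89.Sr.G4T5a
import Cfsg.Agent.Helper89.Sr.T5b
import Cfsg.Agent.Helper89.Sr.T5fin

/-!
# S3572 (Wielandt: dihedral groups are B-groups): assembled pieces, layer 1
-/

set_option autoImplicit false
set_option linter.unusedSectionVars false
set_option linter.unusedVariables false

namespace Cfsg.Agent.Helper61.Sr

open Finset DihedralGroup Cfsg.Agent.Helper61.Dih

section General

variable {H : Type*} [Group H] [Fintype H] [DecidableEq H] (S : SRing H)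

/-- (G3) augmentation -/
theorem sum_coeff_pow (T : Finset H) (m : ℕ) :
    ∑ y, (ind T ^ m).coeff y = (T.card : ℤ) ^ m :=
  Cfsg.Agent.Helper49.Sr.sum_coeff_pow T m

/-- (G4) an `S`-subgroup of a primitive S-ring is trivial -/
theorem prim_subgroup (hS : S.IsPrim) (K : Subgroup H)
    (hK : ∀ x y, S.rel x y → (x ∈ K ↔ y ∈ K)) : K = ⊥ ∨ K = ⊤ :=
  Cfsg.Agent.Helper89.Sr.prim_subgroup S hS K hK

/-! ## Part T5: Wielandt's counting argument -/

/-- (T5a) -/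
theorem T5a (hS : S.IsPrim) (P : Subgroup H) (hP : P ≠ ⊥)
    (hper : ∀ T : Finset H, S.IsSet T → ∀ x ∈ T, x ∉ P → ∀ k ∈ P, k * x ∈ T)
    (T : Finset H) (hT : S.IsSet T) (hne : T.Nonempty) (h1 : (1 : H) ∉ T) : ∃ t ∈ T, t ∈ P :=
  Cfsg.Agent.Helper89.Sr.T5a S hS P hP hper T hT hne h1

/-- (T5b) -/
theorem T5b (P : Subgroup H) [DecidablePred (· ∈ P)]
    (hper : ∀ T : Finset H, S.IsSet T → ∀ x ∈ T, x ∉ P → ∀ k ∈ P, k * x ∈ T)
    (h5a : ∀ T : Finset H, S.IsSet T → T.Nonempty → (1 : H) ∉ T → ∃ t ∈ T, t ∈ P)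
    (T : Finset H) (hT : S.IsSet T) :
    (Fintype.card H - 1) * (T.filter fun t => t ∉ P).card + T.card ≤ T.card ^ 2 :=
  Cfsg.Agent.Helper89.Sr.T5b S P hper h5a T hT

/-- (T5c) -/
theorem T5c (hS : S.IsPrim) (P : Subgroup H) [DecidablePred (· ∈ P)] (hP' : P ≠ ⊤)
    (hper : ∀ T : Finset H, S.IsSet T → ∀ x ∈ T, x ∉ P → ∀ k ∈ P, k * x ∈ T)
    (T : Finset H) (hT : S.IsSet T) (hne : T.Nonempty) (h1 : (1 : H) ∉ T) :
    (T.filter fun t => t ∈ P).card < (T.filter fun t => t ∉ P).card :=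
  Cfsg.Agent.Helper49.Sr.T5c S hS P hP' hper T hT hne h1

/-- (T5fin) -/
theorem T5fin (P : Subgroup H) [DecidablePred (· ∈ P)]
    (h5b : ∀ T : Finset H, S.IsSet T →
      (Fintype.card H - 1) * (T.filter fun t => t ∉ P).card + T.card ≤ T.card ^ 2)
    (h5c : ∀ T : Finset H, S.IsSet T → T.Nonempty → (1 : H) ∉ T →
      (T.filter fun t => t ∈ P).card < (T.filter fun t => t ∉ P).card) : S.IsTriv :=
  Cfsg.Agent.Helper89.Sr.T5fin S P h5b h5c

/-- (T5) -/
theorem T5 (hS : S.IsPrim) (P : Subgroup H) (hP : P ≠ ⊥) (hP' : P ≠ ⊤)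
    (hper : ∀ T : Finset H, S.IsSet T → ∀ x ∈ T, x ∉ P → ∀ k ∈ P, k * x ∈ T) : S.IsTriv := by
  classical
  exact T5fin S P (fun T hT => T5b S P hper (fun T' hT' hne h1 => T5a S hS P hP hper T' hT' hne h1) T hT)
    (fun T hT hne h1 => T5c S hS P hP' hper T hT hne h1)

end General

/-! ## Part D: S-rings over dihedral groups: basics -/
section Dihedral

variable {n : ℕ} [NeZero n] (S : SRing (DihedralGroup n))

/-- (D1) a nonempty `S`-set avoiding `1` contains a reflection -/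
theorem F1 (hS : S.IsPrim) (T : Finset (DihedralGroup n)) (hT : S.IsSet T) (hne : T.Nonempty)
    (h1 : (1 : DihedralGroup n) ∉ T) : ∃ j : ZMod n, sr j ∈ T :=
  Cfsg.Agent.Helper41.Sr.F1 S hS T hT hne h1

/-- (D2) a nonempty `S`-set avoiding `1` contains a rotation -/
theorem F1' (hn : 2 ≤ n) (hS : S.IsPrim) (T : Finset (DihedralGroup n)) (hT : S.IsSet T)
    (hne : T.Nonempty) (h1 : (1 : DihedralGroup n) ∉ T) : ∃ i : ZMod n, r i ∈ T :=
  Cfsg.Agent.Helper41.Sr.F1' S hn hS T hT hne h1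

/-- (D3) every basic set is closed under inversion -/
theorem F2 (hS : S.IsPrim) (x : DihedralGroup n) : S.rel x x⁻¹ := by
  by_cases hx : x = 1
  · subst hx; rw [_root_.inv_one]; exact S.refl 1
  obtain ⟨j, hj⟩ := F1 S hS (S.cls x) (isSet_cls S x) ⟨x, self_mem_cls S x⟩ (one_notMem_cls S hx)
  rw [mem_cls] at hj
  have := S.inv_rel hj
  rw [inv_sr] at this
  exact S.trans hj (S.symm this)

theorem isSet_inv_mem (hS : S.IsPrim) {T : Finset (DihedralGroup n)} (hT : S.IsSet T) :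
    ∀ d ∈ T, d⁻¹ ∈ T := fun d hd => (hT d d⁻¹ (F2 S hS d)).mp hd

/-! ## Part F: Frobenius congruences -/

/-- (F-ref) the reflection coefficients of the `q`-th power vanish mod `q` when the reflection
part is `q`-periodic (`q` odd) -/
theorem coeff_pow_ref (T : Finset (DihedralGroup n)) (hinv : ∀ d ∈ T, d⁻¹ ∈ T) (q : ℕ)
    [Fact q.Prime] (hq2 : q ≠ 2) (hqn : q ∣ n)
    (hB : ∀ j u : ZMod n, q • u = 0 → (sr j ∈ T ↔ sr (j + u) ∈ T)) (x : ZMod n) :
    ((((ind T : MonoidAlgebra ℤ (DihedralGroup n)) ^ q).coeff (sr x) : ℤ) : ZMod q) = 0 :=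
  Cfsg.Agent.Helper67.Sr.coeff_pow_ref T hinv q hq2 hqn hB x

/-- (F2-rot) the case `q = 2` -/
theorem coeff_sq_rot (hn2 : 2 ∣ n) (T : Finset (DihedralGroup n)) (hinv : ∀ d ∈ T, d⁻¹ ∈ T)
    (hB : ∀ j u : ZMod n, 2 • u = 0 → (sr j ∈ T ↔ sr (j + u) ∈ T)) (x : ZMod n) :
    ((((ind T : MonoidAlgebra ℤ (DihedralGroup n)) ^ 2).coeff (r x) : ℤ) : ZMod 2) =
      (((rotPart T).filter (fun i => 2 • i = x)).card : ZMod 2) :=
  Cfsg.Agent.Helper41.Sr.coeff_sq_rot hn2 T hinv hB x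

/-- (F2-ref) -/
theorem coeff_sq_ref (T : Finset (DihedralGroup n)) (hinv : ∀ d ∈ T, d⁻¹ ∈ T) (x : ZMod n) :
    ((((ind T : MonoidAlgebra ℤ (DihedralGroup n)) ^ 2).coeff (sr x) : ℤ) : ZMod 2) = 0 :=
  Cfsg.Agent.Helper41.Sr.coeff_sq_ref T hinv x

/-! ## Part R: periodic reflection parts force the trivial S-ring -/

/-! ## Part U: the fusion by periodic reflection parts -/

/-- (U1) -/
theorem fus_inv_iff (p : ℕ) (f : MonoidAlgebra ℤ (DihedralGroup n)) :
    (∀ x y, fusRel S p x y → f.coeff x = f.coeff y) ↔ (S.Inv f ∧ RefPer p f) :=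
  Cfsg.Agent.Helper70.Sr.fus_inv_iff S p f

/-- (U2) -/
theorem fus_pred_iff (p : ℕ) (φ : DihedralGroup n → Prop) :
    (∀ x y, fusRel S p x y → (φ x ↔ φ y)) ↔
      ((∀ x y, S.rel x y → (φ x ↔ φ y)) ∧
        ∀ j u : ZMod n, p • u = 0 → (φ (sr j) ↔ φ (sr (j + u)))) :=
  Cfsg.Agent.Helper70.Sr.fus_pred_iff S p φ

/-- (U3) -/
theorem refPer_mul (p : ℕ) (f g : MonoidAlgebra ℤ (DihedralGroup n)) (hf : RefPer p f)
    (hg : RefPer p g) : RefPer p (f * g) :=
  Cfsg.Agent.Helper70.Sr.refPer_mul p f g hf hg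

/-- (U4) -/
theorem fus_inv_rel (p : ℕ) {x y : DihedralGroup n} (h : fusRel S p x y) : fusRel S p x⁻¹ y⁻¹ :=
  Cfsg.Agent.Helper70.Sr.fus_inv_rel S p h

/-- the fusion S-ring -/
def fus (p : ℕ) : SRing (DihedralGroup n) where
  rel := fusRel S p
  refl := Relation.EqvGen.refl
  symm := fun h => Relation.EqvGen.symm _ _ h
  trans := fun h h' => Relation.EqvGen.trans _ _ _ h h'
  one_rel := by
    intro x hx
    have := (fus_pred_iff S p (fun y => y = 1)).mpr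
      ⟨fun a b hab => ⟨fun h => S.one_rel (h ▸ S.symm hab), fun h => S.one_rel (h ▸ hab)⟩,
        fun j u _ => ⟨fun h => absurd h (by intro h'; rw [one_def] at h'; cases h'),
          fun h => absurd h (by intro h'; rw [one_def] at h'; cases h')⟩⟩
    exact (this x 1 hx).mpr rfl
  inv_rel := fun h => fus_inv_rel S p h
  mul_inv := by
    intro f g hf hg
    have hf' := (fus_inv_iff S p f).mp hf
    have hg' := (fus_inv_iff S p g).mp hg
    exact (fus_inv_iff S p (f * g)).mpr ⟨S.mul_inv f g hf'.1 hg'.1, refPer_mul p f g hf'.2 hg'.2⟩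

theorem fus_isSet (p : ℕ) (T : Finset (DihedralGroup n)) :
    (fus S p).IsSet T ↔
      (S.IsSet T ∧ ∀ j u : ZMod n, p • u = 0 → (sr j ∈ T ↔ sr (j + u) ∈ T)) :=
  fus_pred_iff S p (fun y => y ∈ T)

theorem fus_prim (p : ℕ) (hS : S.IsPrim) : (fus S p).IsPrim :=
  fun T hT hne h1 => hS T ((fus_isSet S p T).mp hT).1 hne h1

/-! ## Part DS: difference sets -/

/-- (DS1) -/
theorem refPer_sq (T : Finset (DihedralGroup n)) (hinv : ∀ d ∈ T, d⁻¹ ∈ T) (p : ℕ)
    (hA : Per p (rotPart T)) : RefPer p (ind T * ind T) :=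
  Cfsg.Agent.Helper29.Sr.refPer_sq T hinv p hA

/-- (DS2) -/
theorem ds_rot (T : Finset (DihedralGroup n)) (hinv : ∀ d ∈ T, d⁻¹ ∈ T) (lam : ℕ)
    (h : IsDs T lam) (x : ZMod n) (hx : x ≠ 0) :
    ((rotPart T).filter (fun i => x - i ∈ rotPart T)).card +
      ((refPart T).filter (fun j => j + x ∈ refPart T)).card = lam :=
  Cfsg.Agent.Helper33.Sr.ds_rot T hinv lam h x hx

/-- (DS3) -/
theorem ds_ref (T : Finset (DihedralGroup n)) (hinv : ∀ d ∈ T, d⁻¹ ∈ T) (lam : ℕ)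
    (h : IsDs T lam) (x : ZMod n) :
    2 * ((rotPart T).filter (fun i => x + i ∈ refPart T)).card = lam :=
  Cfsg.Agent.Helper33.Sr.ds_ref T hinv lam h x

/-- (DS4) -/
theorem ds_count (T : Finset (DihedralGroup n)) (hinv : ∀ d ∈ T, d⁻¹ ∈ T) (lam : ℕ)
    (h : IsDs T lam) : T.card ^ 2 = T.card + lam * (2 * n - 1) :=
  Cfsg.Agent.Helper29.Sr.ds_count T hinv lam h

/-- (DS5) -/
theorem ds_dihData (T : Finset (DihedralGroup n)) (hinv : ∀ d ∈ T, d⁻¹ ∈ T)
    (h1 : (1 : DihedralGroup n) ∉ T) (lam : ℕ) (h : IsDs T lam) :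
    DihData n (rotPart T) (refPart T) (T.card : ℤ) lam lam :=
  Cfsg.Agent.Helper33.Sr.ds_dihData T hinv h1 lam h

/-- (DS6) the complement of a difference set is a difference set -/
theorem ds_compl (T : Finset (DihedralGroup n)) (hinv : ∀ d ∈ T, d⁻¹ ∈ T) (lam : ℕ)
    (h : IsDs T lam) : ∃ lam' : ℕ, IsDs (univ \ T) lam' :=
  Cfsg.Agent.Helper86.Sr.ds_compl T hinv lam h

/-- (DS7) -/
theorem card_dvd_of_per (p : ℕ) [Fact p.Prime] (hpn : p ∣ n) (A : Finset (ZMod n))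
    (hA : Per p A) : p ∣ A.card :=
  Cfsg.Agent.Helper69.Sr.card_dvd_of_per p hpn A hA

/-- (DS8) -/
theorem card_rot_add_ref (T : Finset (DihedralGroup n)) :
    (rotPart T).card + (refPart T).card = T.card :=
  Cfsg.Agent.Helper29.Sr.card_rot_add_ref T

/-- (Qcore) the arithmetic of a reversible difference set whose rotation part lies in a proper
subgroup -/
theorem Qcore (hn : 3 ≤ n) (A B : Finset (ZMod n)) (lam : ℕ) (hneg : ∀ i ∈ A, -i ∈ A)
    (hrot : ∀ x : ZMod n, x ≠ 0 →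
      (A.filter (fun i => x - i ∈ A)).card + (B.filter (fun j => j + x ∈ B)).card = lam)
    (href : ∀ x : ZMod n, 2 * (A.filter (fun i => x + i ∈ B)).card = lam)
    (hk : 2 ≤ A.card + B.card)
    (hcount : (A.card + B.card) ^ 2 = A.card + B.card + lam * (2 * n - 1))
    (K : AddSubgroup (ZMod n)) (hK : K ≠ ⊤) (hAK : ∀ i ∈ A, i ∈ K) :
    n = 8 ∧ A.card = 2 ∧ B.card = 4 ∧ lam = 2 :=
  Cfsg.Agent.Helper86.Sr.Qcore hn A B lam hneg hrot href hk hcount K hK hAK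

/-- (Q) a reversible difference set whose rotation part lies in a proper subgroup -/
theorem Q (hn : 3 ≤ n) (T : Finset (DihedralGroup n)) (hinv : ∀ d ∈ T, d⁻¹ ∈ T) (lam : ℕ)
    (h : IsDs T lam) (hk : 2 ≤ T.card) (K : AddSubgroup (ZMod n)) (hK : K ≠ ⊤)
    (hAK : ∀ i ∈ rotPart T, i ∈ K) :
    n = 8 ∧ (rotPart T).card = 2 ∧ (refPart T).card = 4 ∧ lam = 2 := by
  have hneg : ∀ i ∈ rotPart T, -i ∈ rotPart T := by
    intro i hi
    rw [mem_rotPart] at hi ⊢
    have := hinv _ hi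
    rwa [inv_r] at this
  have hc := card_rot_add_ref T
  exact Qcore hn (rotPart T) (refPart T) lam hneg (ds_rot T hinv lam h) (ds_ref T hinv lam h)
    (by rw [hc]; exact hk) (by rw [hc]; exact ds_count T hinv lam h) K hK hAK

/-- (N8) the two remaining configurations in the dihedral group of order 16 -/
theorem N8 (B : Finset (ZMod 8)) (A : Finset (ZMod 8))
    (hA : A = {2, 6} ∨ A = {0, 4})
    (hrot : ∀ x : ZMod 8, x ≠ 0 →
      (A.filter (fun i => x - i ∈ A)).card + (B.filter (fun j => j + x ∈ B)).card = 2) :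
    False :=
  Cfsg.Agent.Helper86.Sr.N8 B A hA hrot

/-! ## Part PL: power maps -/

/-- (RAT) the rational closure -/
theorem RAT_of (hn : 3 ≤ n) (T : Finset (DihedralGroup n)) (hT : S.IsSet T)
    (h1 : (1 : DihedralGroup n) ∉ T)
    (hPL : ∀ l : ℕ, l.Prime → 2 * n < l → ∃ T' : Finset (DihedralGroup n), S.IsSet T' ∧
      (∀ x : ZMod n, x ∈ rotPart T' ↔ ∃ i ∈ rotPart T, l • i = x) ∧ T'.card = T.card) :
    ∃ R : Finset (DihedralGroup n), S.IsSet R ∧ (1 : DihedralGroup n) ∉ R ∧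
      ∀ x : ZMod n, x ∈ rotPart R ↔ ∃ u : (ZMod n)ˣ, ∃ i ∈ rotPart T, (u : ZMod n) * i = x :=
  Cfsg.Agent.Helper10.Sr.RAT_of S hn T hT h1 hPL

/-! ## Part NT: number theory in `ZMod n` -/

/-- (NT1) the units act transitively on the elements of order `p` -/
theorem unit_trans_tor (p : ℕ) [Fact p.Prime] (hpn : p ∣ n) (k k' : ZMod n) (hk : p • k = 0)
    (hk0 : k ≠ 0) (hk' : p • k' = 0) (hk'0 : k' ≠ 0) : ∃ u : (ZMod n)ˣ, (u : ZMod n) * k = k' :=
  Cfsg.Agent.Helper69.Sr.unit_trans_tor p hpn k k' hk hk0 hk' hk'0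

/-- (NT2) -/
theorem rational_tor (p : ℕ) [Fact p.Prime] (hpn : p ∣ n) (A : Finset (ZMod n))
    (hA : Rational A) :
    (∀ u : ZMod n, p • u = 0 → u ≠ 0 → u ∉ A) ∨ (∀ u : ZMod n, p • u = 0 → u ≠ 0 → u ∈ A) :=
  Cfsg.Agent.Helper69.Sr.rational_tor p hpn A hA

/-- (NT3) elements of `2`-power order at least `4` -/
theorem unit_add_half (hn2 : 2 ∣ n) (x : ZMod n) (a : ℕ) (hx : (2 ^ a) • x = 0)
    (hx2 : 2 • x ≠ 0) : ∃ u : (ZMod n)ˣ, (u : ZMod n) * x = x + ((n / 2 : ℕ) : ZMod n) :=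
  Cfsg.Agent.Helper69.Sr.unit_add_half hn2 x a hx hx2

/-- (NT4) -/
theorem rational_odd (a : ℕ) (hn : n = 2 ^ a) (A : Finset (ZMod n)) (hA : Rational A) :
    (∀ x : ZMod n, IsUnit x → x ∉ A) ∨ (∀ x : ZMod n, IsUnit x → x ∈ A) :=
  Cfsg.Agent.Helper69.Sr.rational_odd a hn A hA

/-! ## Part NP: no basic set has its rotation part inside a proper subgroup -/

/-- (QF) -/
theorem Qfalse (hn : 3 ≤ n) (T : Finset (DihedralGroup n)) (hinv : ∀ d ∈ T, d⁻¹ ∈ T) (lam : ℕ)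
    (h : IsDs T lam) (hk : 2 ≤ T.card) (K : AddSubgroup (ZMod n)) (hK : K ≠ ⊤)
    (hAK : ∀ i ∈ rotPart T, i ∈ K) : False :=
  Cfsg.Agent.Helper47.Sr.Qfalse_core T hinv lam K hK hAK (Q hn T hinv lam h hk K hK hAK)
    (fun B A hA hrot => N8 B A hA hrot) (fun x hx => ds_rot T hinv lam h x hx)

/-! ## Part RC: the rational closure of every basic set is everything -/

/-! ## Part E: the endgame -/

/-- (E2) -/
theorem E2 (hn : 3 ≤ n)
    (hE : ∀ y y' : DihedralGroup n, y ≠ 1 → y' ≠ 1 → (S.cls y').card = (S.cls y).card ∧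
      (rotPart (S.cls y')).card = (rotPart (S.cls y)).card) : S.IsTriv :=
  Cfsg.Agent.Helper31.Sr.E2 S hn hE

/-- (M2) the Klein four group -/
theorem main2 (S : SRing (DihedralGroup 2)) (hS : S.IsPrim) : S.IsTriv :=
  Cfsg.Agent.Helper67.Sr.main2 S hS

/-- (M1) -/
theorem main1 (S : SRing (DihedralGroup 1)) : S.IsTriv :=
  Cfsg.Agent.Helper67.Sr.main1 S

end Dihedral

/-! ## Part O: the transitivity module of a permutation group with a regular subgroup -/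
section Concrete

open MulAction

variable {H : Type*} [Group H] [Fintype H] [DecidableEq H] {G : Type*} [Group G] [MulAction G H]
variable (ι : H →* G) (hι : ∀ h x : H, ι h • x = h * x)

include hι in
/-- (O1) -/
theorem orb_inv_rel {x y : H} (h : orbRel G x y) : orbRel G x⁻¹ y⁻¹ :=
  Cfsg.Agent.Helper31.Sr.orb_inv_rel ι hι h

include hι in
/-- (O2) Schur's theorem: the transitivity module is closed under multiplication -/
theorem orb_mul_inv (f g : MonoidAlgebra ℤ H)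
    (hf : ∀ x y, orbRel G x y → f.coeff x = f.coeff y)
    (hg : ∀ x y, orbRel G x y → g.coeff x = g.coeff y) :
    ∀ x y, orbRel G x y → (f * g).coeff x = (f * g).coeff y :=
  Cfsg.Agent.Helper59.Sr.orb_mul_inv ι hι f g hf hg

/-- the transitivity module as an S-ring -/
def orbSR : SRing H where
  rel := orbRel G
  refl := fun x => ⟨1, one_mem _, one_smul _ _⟩
  symm := by
    rintro x y ⟨g, hg, rfl⟩
    exact ⟨g⁻¹, inv_mem hg, inv_smul_smul _ _⟩
  trans := by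
    rintro x y z ⟨g, hg, rfl⟩ ⟨g', hg', rfl⟩
    exact ⟨g' * g, mul_mem hg' hg, mul_smul _ _ _⟩
  one_rel := by
    rintro x ⟨g, hg, h⟩
    have h2 : g • x = g • (1 : H) := by rw [h, mem_stabilizer_iff.mp hg]
    exact MulAction.injective g h2
  inv_rel := fun h => orb_inv_rel ι hι h
  mul_inv := orb_mul_inv ι hι

include hι in
/-- (O3) -/
theorem orb_prim (hprim : IsPreprimitive G H) (T : Finset H)
    (hT : ∀ x y, orbRel G x y → (x ∈ T ↔ y ∈ T)) (hne : T.Nonempty) (h1 : (1 : H) ∉ T) :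
    Subgroup.closure (T : Set H) = ⊤ :=
  Cfsg.Agent.Helper49.Sr.orb_prim ι hι hprim T hT hne h1

theorem orbSR_prim (hprim : IsPreprimitive G H) : (orbSR ι hι).IsPrim :=
  fun T hT hne h1 => orb_prim ι hι hprim T hT hne h1

include hι in
/-- (O4) -/
theorem two_trans_of_triv
    (htriv : ∀ x y : H, x ≠ 1 → y ≠ 1 → ∃ g ∈ stabilizer G (1 : H), g • x = y) :
    IsMultiplyPretransitive G H 2 :=
  Cfsg.Agent.Helper73.Sr.two_trans_of_triv ι hι htriv

end Concrete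

/-- (O5) the transport -/
theorem concrete_of {G Ω : Type*} [Group G] [MulAction G Ω] [Finite Ω]
    (key : ∀ (m : ℕ) [NeZero m] [MulAction G (DihedralGroup m)] (ι : DihedralGroup m →* G),
      (∀ h x : DihedralGroup m, ι h • x = h * x) →
      MulAction.IsPreprimitive G (DihedralGroup m) →
      ∀ x y : DihedralGroup m, x ≠ 1 → y ≠ 1 →
        ∃ g ∈ MulAction.stabilizer G (1 : DihedralGroup m), g • x = y)
    (hprim : MulAction.IsPreprimitive G Ω) (D : Subgroup G) (m : ℕ)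
    (hD : Nonempty (↥D ≃* DihedralGroup m))
    (hDreg : MulAction.IsPretransitive ↥D Ω ∧ ∀ a : Ω, MulAction.stabilizer ↥D a = ⊥) :
    MulAction.IsMultiplyPretransitive G Ω 2 :=
  Cfsg.Agent.Helper59.Sr.concrete_of key hprim D m hD hDreg

end Cfsg.Agent.Helper61.Sr
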