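import Cfsg.Agent.Helper61.Sr.P1
import Cfsg.Agent.Helper10.Sr.NPfin_of
import Cfsg.Agent.Helper33.Sr.C3_of
import Cfsg.Agent.Helper34.Sr.C3a
import Cfsg.Agent.Helper34.Sr.Core
import Cfsg.Agent.Helper48.Sr.E1_of
import Cfsg.Agent.Helper48.Sr.R1Core
import Cfsg.Agent.Helper53.Sr.PL
import Cfsg.Agent.Helper53.Sr.PO

/-!
# S3572 (Wielandt: dihedral groups are B-groups): assembled pieces, layer 2
-/

set_option autoImplicit false
set_option linter.unusedSectionVars false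
set_option linter.unusedVariables false

namespace Cfsg.Agent.Helper61.Sr

open Finset DihedralGroup Cfsg.Agent.Helper61.Dih

section General

variable {H : Type*} [Group H] [Fintype H] [DecidableEq H] (S : SRing H)

/-! ## Part T5: Wielandt's counting argument -/

end General

/-! ## Part D: S-rings over dihedral groups: basics -/
section Dihedral

variable {n : ℕ} [NeZero n] (S : SRing (DihedralGroup n))

/-! ## Part F: Frobenius congruences -/

/-! ## Part R: periodic reflection parts force the trivial S-ring -/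

/-- (R1a) -/
theorem R1a (hn : 3 ≤ n) (hS : S.IsPrim) (p : ℕ) [Fact p.Prime] (hpn : p ∣ n)
    (href : ∀ T, S.IsSet T → ∀ j u : ZMod n, p • u = 0 → (sr j ∈ T ↔ sr (j + u) ∈ T))
    (T : Finset (DihedralGroup n)) (hT : S.IsSet T) : PerOff p (rotPart T) :=
  by
  have hinv := isSet_inv_mem S hS hT
  by_cases hp2 : p = 2
  · subst hp2
    exact Cfsg.Agent.Helper34.Sr.R1a_core S 2 hpn (fun T' hT' hne h1 => F1 S hS T' hT' hne h1) T hT
      (fun x => coeff_sq_ref T hinv x) (fun x => coeff_sq_rot hpn T hinv (href T hT) x)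
  · exact Cfsg.Agent.Helper34.Sr.R1a_core S p hpn (fun T' hT' hne h1 => F1 S hS T' hT' hne h1) T hT
      (fun x => coeff_pow_ref T hinv p hp2 hpn (href T hT) x)
      (fun x => Cfsg.Agent.Helper61.Dih.coeff_pow_rot T hinv p hp2 x)

/-- (R1) -/
theorem R1_of (hn : 3 ≤ n) (hS : S.IsPrim) (p : ℕ) [Fact p.Prime] (hpn : p ∣ n)
    (href : ∀ T, S.IsSet T → ∀ j u : ZMod n, p • u = 0 → (sr j ∈ T ↔ sr (j + u) ∈ T))
    (hR1a : ∀ T : Finset (DihedralGroup n), S.IsSet T → PerOff p (rotPart T)) :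
    S.IsTriv :=
  Cfsg.Agent.Helper48.Sr.R1_of_core S hn p hpn href hR1a
    (fun P hP hP' hper => T5 S hS P hP hP' hper)

theorem R1 (hn : 3 ≤ n) (hS : S.IsPrim) (p : ℕ) [Fact p.Prime] (hpn : p ∣ n)
    (href : ∀ T, S.IsSet T → ∀ j u : ZMod n, p • u = 0 → (sr j ∈ T ↔ sr (j + u) ∈ T)) :
    S.IsTriv :=
  R1_of S hn hS p hpn href (fun T hT => R1a S hn hS p hpn href T hT)

/-! ## Part U: the fusion by periodic reflection parts -/

/-- (C1) an element of a primitive S-ring with periodic reflection part is trivial -/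
theorem C1 (hn : 3 ≤ n) (hS : S.IsPrim) (p : ℕ) [Fact p.Prime] (hpn : p ∣ n)
    (f : MonoidAlgebra ℤ (DihedralGroup n)) (hf : S.Inv f) (hfp : RefPer p f) :
    ∀ x y : DihedralGroup n, x ≠ 1 → y ≠ 1 → f.coeff x = f.coeff y := by
  have htriv : (fus S p).IsTriv :=
    R1 (fus S p) hn (fus_prim S p hS) p hpn (fun T hT => ((fus_isSet S p T).mp hT).2)
  intro x y hx hy
  exact (fus_inv_iff S p f).mpr ⟨hf, hfp⟩ x y (htriv x y hx hy)

/-! ## Part DS: difference sets -/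

/-- (C2) an `S`-set with periodic rotation part is a difference set -/
theorem C2 (hn : 3 ≤ n) (hS : S.IsPrim) (p : ℕ) [Fact p.Prime] (hpn : p ∣ n)
    (T : Finset (DihedralGroup n)) (hT : S.IsSet T) (hA : Per p (rotPart T)) :
    ∃ lam : ℕ, IsDs T lam := by
  have hinv := isSet_inv_mem S hS hT
  have hf : S.Inv (ind T * ind T) := inv_mul S (inv_ind S hT) (inv_ind S hT)
  have hc := C1 S hn hS p hpn _ hf (refPer_sq T hinv p hA)
  have hne1 : (sr (0 : ZMod n) : DihedralGroup n) ≠ 1 := by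
    intro h; rw [one_def] at h; cases h
  refine ⟨((ind T * ind T).coeff (sr (0 : ZMod n))).toNat, fun y hy => ?_⟩
  rw [hc y (sr 0) hy hne1]
  have hnn : 0 ≤ (ind T * ind T).coeff (sr (0 : ZMod n)) := by
    rw [coeff_ind_mul_ind]; exact Int.natCast_nonneg _
  exact (Int.toNat_of_nonneg hnn).symm

/-- (C3a) -/
theorem C3a (hn : 3 ≤ n) (hS : S.IsPrim) (p : ℕ) [Fact p.Prime] (hp2 : p ≠ 2) (hpn : p ∣ n)
    (T : Finset (DihedralGroup n)) (hT : S.IsSet T) (h1 : (1 : DihedralGroup n) ∉ T)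
    (hA : Per p (rotPart T)) : p ∣ T.card :=
  Cfsg.Agent.Helper34.Sr.C3a S hn hS p hp2 hpn T hT h1 hA

/-- (C3) no nonempty `S`-set avoiding `1` has a `p`-periodic rotation part (`p` odd) -/
theorem C3_of (hn : 3 ≤ n) (hS : S.IsPrim) (p : ℕ) [Fact p.Prime] (hp2 : p ≠ 2) (hpn : p ∣ n)
    (T : Finset (DihedralGroup n)) (hT : S.IsSet T) (hne : T.Nonempty)
    (h1 : (1 : DihedralGroup n) ∉ T) (hA : Per p (rotPart T))
    (hds : ∃ lam : ℕ, IsDs T lam) (hcard : p ∣ T.card) : False :=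
  Cfsg.Agent.Helper33.Sr.C3_of S hn hS p hp2 hpn T hT hne h1 hA hds hcard

theorem C3 (hn : 3 ≤ n) (hS : S.IsPrim) (p : ℕ) [Fact p.Prime] (hp2 : p ≠ 2) (hpn : p ∣ n)
    (T : Finset (DihedralGroup n)) (hT : S.IsSet T) (hne : T.Nonempty)
    (h1 : (1 : DihedralGroup n) ∉ T) (hA : Per p (rotPart T)) : False :=
  C3_of S hn hS p hp2 hpn T hT hne h1 hA (C2 S hn hS p hpn T hT hA)
    (C3a S hn hS p hp2 hpn T hT h1 hA)

/-! ## Part PL: power maps -/

/-- (PL) -/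
theorem PL (hn : 3 ≤ n) (hS : S.IsPrim) (T : Finset (DihedralGroup n)) (hT : S.IsSet T)
    (l : ℕ) (hl : l.Prime) (hl2n : 2 * n < l) :
    ∃ T' : Finset (DihedralGroup n), S.IsSet T' ∧
      (∀ x : ZMod n, x ∈ rotPart T' ↔ ∃ i ∈ rotPart T, l • i = x) ∧ T'.card = T.card :=
  Cfsg.Agent.Helper53.Sr.PL S hn hS T hT l hl hl2n

theorem RAT (hn : 3 ≤ n) (hS : S.IsPrim) (T : Finset (DihedralGroup n)) (hT : S.IsSet T)
    (h1 : (1 : DihedralGroup n) ∉ T) :
    ∃ R : Finset (DihedralGroup n), S.IsSet R ∧ (1 : DihedralGroup n) ∉ R ∧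
      ∀ x : ZMod n, x ∈ rotPart R ↔ ∃ u : (ZMod n)ˣ, ∃ i ∈ rotPart T, (u : ZMod n) * i = x :=
  RAT_of S hn T hT h1 (fun l hl hl2n => PL S hn hS T hT l hl hl2n)

/-! ## Part NT: number theory in `ZMod n` -/

/-! ## Part NP: no basic set has its rotation part inside a proper subgroup -/

/-- (PO) -/
theorem perOff_of_empty (hn : 3 ≤ n) (hS : S.IsPrim) (p : ℕ) [Fact p.Prime] (hp2 : p ≠ 2)
    (hpn : p ∣ n) (T : Finset (DihedralGroup n)) (hT : S.IsSet T)
    (hemp : ∀ T' : Finset (DihedralGroup n), S.IsSet T' → (1 : DihedralGroup n) ∉ T' →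
      (∀ i ∈ rotPart T', ∃ x ∈ rotPart T, p • x = i) → T' = ∅) : PerOff p (rotPart T) :=
  Cfsg.Agent.Helper53.Sr.perOff_of_empty S hn hS p hp2 hpn T hT hemp

/-- (NPfin) -/
theorem NPfin_of (hn : 3 ≤ n) (hS : S.IsPrim) (p : ℕ) [Fact p.Prime] (hpn : p ∣ n)
    (K : AddSubgroup (ZMod n)) (hK : K ≠ ⊤) (R : Finset (DihedralGroup n)) (hR : S.IsSet R)
    (hne : R.Nonempty) (h1 : (1 : DihedralGroup n) ∉ R) (hAK : ∀ i ∈ rotPart R, i ∈ K)
    (hper : PerOff p (rotPart R))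
    (hdich : (∀ u : ZMod n, p • u = 0 → u ≠ 0 → u ∉ rotPart R) ∨
      (∀ u : ZMod n, p • u = 0 → u ≠ 0 → u ∈ rotPart R))
    (hC2 : ∀ T : Finset (DihedralGroup n), S.IsSet T → Per p (rotPart T) → ∃ lam : ℕ, IsDs T lam)
    (hQf : ∀ (T : Finset (DihedralGroup n)) (lam : ℕ), (∀ d ∈ T, d⁻¹ ∈ T) → IsDs T lam →
      2 ≤ T.card → (∀ i ∈ rotPart T, i ∈ K) → False) : False :=
  Cfsg.Agent.Helper10.Sr.NPfin_of S hn hS p hpn K hK R hR hne h1 hAK hper hdich hC2 hQf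

theorem NPfin (hn : 3 ≤ n) (hS : S.IsPrim) (p : ℕ) [Fact p.Prime] (hpn : p ∣ n)
    (K : AddSubgroup (ZMod n)) (hK : K ≠ ⊤) (R : Finset (DihedralGroup n)) (hR : S.IsSet R)
    (hne : R.Nonempty) (h1 : (1 : DihedralGroup n) ∉ R) (hAK : ∀ i ∈ rotPart R, i ∈ K)
    (hper : PerOff p (rotPart R))
    (hdich : (∀ u : ZMod n, p • u = 0 → u ≠ 0 → u ∉ rotPart R) ∨
      (∀ u : ZMod n, p • u = 0 → u ≠ 0 → u ∈ rotPart R)) : False :=
  NPfin_of S hn hS p hpn K hK R hR hne h1 hAK hper hdich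
    (fun T hT hA => C2 S hn hS p hpn T hT hA)
    (fun T lam hinv h hk hAK' => Qfalse hn T hinv lam h hk K hK hAK')

/-! ## Part RC: the rational closure of every basic set is everything -/

/-! ## Part E: the endgame -/

/-- (E1) -/
theorem E1_of (hn : 3 ≤ n) (hS : S.IsPrim)
    (hRC : ∀ T : Finset (DihedralGroup n), S.IsSet T → T.Nonempty → (1 : DihedralGroup n) ∉ T →
      ∀ x : ZMod n, x ≠ 0 → ∃ u : (ZMod n)ˣ, ∃ i ∈ rotPart T, (u : ZMod n) * i = x)
    (hPL : ∀ T : Finset (DihedralGroup n), S.IsSet T → ∀ l : ℕ, l.Prime → 2 * n < l →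
      ∃ T' : Finset (DihedralGroup n), S.IsSet T' ∧
        (∀ x : ZMod n, x ∈ rotPart T' ↔ ∃ i ∈ rotPart T, l • i = x) ∧ T'.card = T.card)
    (y y' : DihedralGroup n) (hy : y ≠ 1) (hy' : y' ≠ 1) :
    (S.cls y').card = (S.cls y).card ∧
      (rotPart (S.cls y')).card = (rotPart (S.cls y)).card :=
  Cfsg.Agent.Helper48.Sr.E1_of S hn hS hRC hPL y y' hy hy'

theorem E1 (hn : 3 ≤ n) (hS : S.IsPrim)
    (hRC : ∀ T : Finset (DihedralGroup n), S.IsSet T → T.Nonempty → (1 : DihedralGroup n) ∉ T →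
      ∀ x : ZMod n, x ≠ 0 → ∃ u : (ZMod n)ˣ, ∃ i ∈ rotPart T, (u : ZMod n) * i = x)
    (y y' : DihedralGroup n) (hy : y ≠ 1) (hy' : y' ≠ 1) :
    (S.cls y').card = (S.cls y).card ∧
      (rotPart (S.cls y')).card = (rotPart (S.cls y)).card :=
  E1_of S hn hS hRC (fun T hT l hl hl2n => PL S hn hS T hT l hl hl2n) y y' hy hy'

end Dihedral

/-! ## Part O: the transitivity module of a permutation group with a regular subgroup -/
section Concrete

open MulAction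

variable {H : Type*} [Group H] [Fintype H] [DecidableEq H] {G : Type*} [Group G] [MulAction G H]
variable (ι : H →* G) (hι : ∀ h x : H, ι h • x = h * x)

end Concrete

end Cfsg.Agent.Helper61.Sr
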