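import Cfsg.Agent.Helper61.Sr.P2
import Cfsg.Agent.Helper33.Sr.BAD2_of
import Cfsg.Agent.Helper66.Sr.NP2
import Cfsg.Agent.Helper66.Sr.RC1a_of
import Cfsg.Agent.Helper79.Sr.NPodd
import Cfsg.Agent.Helper79.Sr.RC1_ofV
import Cfsg.Agent.Helper89.Sr.RC2of

/-!
# S3572 (Wielandt: dihedral groups are B-groups): assembled pieces, layer 3
-/

set_option autoImplicit false
set_option linter.unusedSectionVars false
set_option linter.unusedVariables false

namespace Cfsg.Agent.Helper61.Sr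

open Finset DihedralGroup Cfsg.Agent.Helper61.Dih

section General

variable {H : Type*} [Group H] [Fintype H] [DecidableEq H] (S : SRing H)

/-! ## Part T5: Wielandt's counting argument -/

end General

/-! ## Part D: S-rings over dihedral groups: basics -/
section Dihedral

variable {n : ℕ} [NeZero n] (S : SRing (DihedralGroup n))

/-! ## Part F: Frobenius congruences -/

/-! ## Part R: periodic reflection parts force the trivial S-ring -/

/-! ## Part U: the fusion by periodic reflection parts -/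

/-! ## Part DS: difference sets -/

/-! ## Part PL: power maps -/

/-! ## Part NT: number theory in `ZMod n` -/

/-! ## Part NP: no basic set has its rotation part inside a proper subgroup -/

/-- (NPodd) -/
theorem NPodd (hn : 3 ≤ n) (hS : S.IsPrim) (K : AddSubgroup (ZMod n)) (hK : K ≠ ⊤) (p : ℕ)
    [Fact p.Prime] (hp2 : p ≠ 2) (hpK : p ∣ Nat.card K)
    (IH : ∀ K' : AddSubgroup (ZMod n), Nat.card K' < Nat.card K →
      ∀ T : Finset (DihedralGroup n), S.IsSet T → T.Nonempty → (1 : DihedralGroup n) ∉ T →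
        (∀ i ∈ rotPart T, i ∈ K') → False)
    (T : Finset (DihedralGroup n)) (hT : S.IsSet T) (hne : T.Nonempty)
    (h1 : (1 : DihedralGroup n) ∉ T) (hAK : ∀ i ∈ rotPart T, i ∈ K) : False :=
  Cfsg.Agent.Helper79.Sr.NPodd S hn hS K hK p hp2 hpK IH T hT hne h1 hAK

/-- (NP2) -/
theorem NP2 (hn : 3 ≤ n) (hS : S.IsPrim) (K : AddSubgroup (ZMod n)) (hK : K ≠ ⊤) (a : ℕ)
    (hKa : Nat.card K = 2 ^ a)
    (T : Finset (DihedralGroup n)) (hT : S.IsSet T) (hne : T.Nonempty)
    (h1 : (1 : DihedralGroup n) ∉ T) (hAK : ∀ i ∈ rotPart T, i ∈ K) : False :=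
  Cfsg.Agent.Helper66.Sr.NP2 S hn hS K hK a hKa T hT hne h1 hAK

/-- (NP) -/
theorem NP (hn : 3 ≤ n) (hS : S.IsPrim) (K : AddSubgroup (ZMod n)) (hK : K ≠ ⊤)
    (T : Finset (DihedralGroup n)) (hT : S.IsSet T) (hne : T.Nonempty)
    (h1 : (1 : DihedralGroup n) ∉ T) (hAK : ∀ i ∈ rotPart T, i ∈ K) : False := by
  induction hc : Nat.card K using Nat.strong_induction_on generalizing K T with
  | _ m IH =>
    subst hc
    rcases Nat.eq_two_pow_or_exists_odd_prime_and_dvd (Nat.card K) with ⟨a, ha⟩ | ⟨p, hp, hpK, hodd⟩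
    · exact NP2 S hn hS K hK a ha T hT hne h1 hAK
    · have : Fact p.Prime := ⟨hp⟩
      have hp2 : p ≠ 2 := by rintro rfl; exact absurd hodd (by decide)
      exact NPodd S hn hS K hK p hp2 hpK
        (fun K' hK' T' hT' hne' h1' hAK' =>
          IH (Nat.card K') hK' K' (fun h => by
            rw [h] at hK'
            have : Nat.card K ≤ Nat.card (⊤ : AddSubgroup (ZMod n)) := by
              rw [AddSubgroup.card_top]
              exact AddSubgroup.card_le_card_addGroup K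
            omega) T' hT' hne' h1' hAK' rfl)
        T hT hne h1 hAK

/-! ## Part RC: the rational closure of every basic set is everything -/

/-- (RC1a) -/
theorem RC1a_of (hn : 3 ≤ n) (hS : S.IsPrim) (p : ℕ) [Fact p.Prime] (hp2 : p ≠ 2) (hpn : p ∣ n)
    (hNP : ∀ K : AddSubgroup (ZMod n), K ≠ ⊤ → ∀ T : Finset (DihedralGroup n), S.IsSet T →
      T.Nonempty → (1 : DihedralGroup n) ∉ T → (∀ i ∈ rotPart T, i ∈ K) → False)
    (T : Finset (DihedralGroup n)) (hT : S.IsSet T) : PerOff p (rotPart T) :=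
  Cfsg.Agent.Helper66.Sr.RC1a_of S hn hS p hp2 hpn hNP T hT

theorem RC1a (hn : 3 ≤ n) (hS : S.IsPrim) (p : ℕ) [Fact p.Prime] (hp2 : p ≠ 2) (hpn : p ∣ n)
    (T : Finset (DihedralGroup n)) (hT : S.IsSet T) : PerOff p (rotPart T) :=
  RC1a_of S hn hS p hp2 hpn (fun K hK T hT hne h1 hAK => NP S hn hS K hK T hT hne h1 hAK) T hT

/-- (RC1) -/
theorem RC1_of (hn : 3 ≤ n) (hS : S.IsPrim) (p : ℕ) [Fact p.Prime] (hp2 : p ≠ 2) (hpn : p ∣ n)
    (hper : ∀ T : Finset (DihedralGroup n), S.IsSet T → PerOff p (rotPart T))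
    (T : Finset (DihedralGroup n)) (hT : S.IsSet T) (hne : T.Nonempty)
    (h1 : (1 : DihedralGroup n) ∉ T) (x : ZMod n) (hx : x ≠ 0) :
    ∃ u : (ZMod n)ˣ, ∃ i ∈ rotPart T, (u : ZMod n) * i = x :=
  Cfsg.Agent.Helper79.Sr.RC1_of' S hn hS p hp2 hpn hper T hT hne h1 x hx

theorem RC1 (hn : 3 ≤ n) (hS : S.IsPrim) (p : ℕ) [Fact p.Prime] (hp2 : p ≠ 2) (hpn : p ∣ n)
    (T : Finset (DihedralGroup n)) (hT : S.IsSet T) (hne : T.Nonempty)
    (h1 : (1 : DihedralGroup n) ∉ T) (x : ZMod n) (hx : x ≠ 0) :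
    ∃ u : (ZMod n)ˣ, ∃ i ∈ rotPart T, (u : ZMod n) * i = x :=
  RC1_of S hn hS p hp2 hpn (fun T hT => RC1a S hn hS p hp2 hpn T hT) T hT hne h1 x hx

/-- (BAD2) -/
theorem BAD2_of (a : ℕ) (hna : n = 2 ^ a) (ha : 2 ≤ a) (hS : S.IsPrim)
    (hNP : ∀ K : AddSubgroup (ZMod n), K ≠ ⊤ → ∀ T : Finset (DihedralGroup n), S.IsSet T →
      T.Nonempty → (1 : DihedralGroup n) ∉ T → (∀ i ∈ rotPart T, i ∈ K) → False)
    (R : Finset (DihedralGroup n)) (hR : S.IsSet R) (hne : R.Nonempty)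
    (h1 : (1 : DihedralGroup n) ∉ R) (hrat : Rational (rotPart R)) (hper : Per 2 (rotPart R)) :
    False :=
  Cfsg.Agent.Helper33.Sr.BAD2_of S a hna ha hS hNP R hR hne h1 hrat hper

theorem BAD2 (a : ℕ) (hna : n = 2 ^ a) (ha : 2 ≤ a) (hS : S.IsPrim)
    (R : Finset (DihedralGroup n)) (hR : S.IsSet R) (hne : R.Nonempty)
    (h1 : (1 : DihedralGroup n) ∉ R) (hrat : Rational (rotPart R)) (hper : Per 2 (rotPart R)) :
    False := by
  have hn : 3 ≤ n := by
    rw [hna]
    calc 3 ≤ 2 ^ 2 := by norm_num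
      _ ≤ 2 ^ a := Nat.pow_le_pow_right (by norm_num) ha
  exact BAD2_of S a hna ha hS (fun K hK T hT hne h1 hAK => NP S hn hS K hK T hT hne h1 hAK)
    R hR hne h1 hrat hper

/-- (RC2) -/
theorem RC2_of (a : ℕ) (hna : n = 2 ^ a) (ha : 2 ≤ a) (hS : S.IsPrim)
    (hBAD : ∀ R : Finset (DihedralGroup n), S.IsSet R → R.Nonempty →
      (1 : DihedralGroup n) ∉ R → Rational (rotPart R) → Per 2 (rotPart R) → False)
    (T : Finset (DihedralGroup n)) (hT : S.IsSet T) (hne : T.Nonempty)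
    (h1 : (1 : DihedralGroup n) ∉ T) (x : ZMod n) (hx : x ≠ 0) :
    ∃ u : (ZMod n)ˣ, ∃ i ∈ rotPart T, (u : ZMod n) * i = x :=
  Cfsg.Agent.Helper89.Sr.RC2_of S a hna ha hS hBAD T hT hne h1 x hx

theorem RC2 (a : ℕ) (hna : n = 2 ^ a) (ha : 2 ≤ a) (hS : S.IsPrim)
    (T : Finset (DihedralGroup n)) (hT : S.IsSet T) (hne : T.Nonempty)
    (h1 : (1 : DihedralGroup n) ∉ T) (x : ZMod n) (hx : x ≠ 0) :
    ∃ u : (ZMod n)ˣ, ∃ i ∈ rotPart T, (u : ZMod n) * i = x :=
  RC2_of S a hna ha hS (fun R hR hne h1 hrat hper => BAD2 S a hna ha hS R hR hne h1 hrat hper)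
    T hT hne h1 x hx

/-! ## Part E: the endgame -/

theorem main3 (hn : 3 ≤ n) (hS : S.IsPrim) : S.IsTriv := by
  rcases Nat.eq_two_pow_or_exists_odd_prime_and_dvd n with ⟨a, ha⟩ | ⟨p, hp, hpn, hodd⟩
  · have ha2 : 2 ≤ a := by
      by_contra hlt
      have : a = 0 ∨ a = 1 := by omega
      rcases this with rfl | rfl <;> omega
    exact E2 S hn (E1 S hn hS (RC2 S a ha ha2 hS))
  · have : Fact p.Prime := ⟨hp⟩
    have hp2 : p ≠ 2 := by rintro rfl; exact absurd hodd (by decide)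
    exact E2 S hn (E1 S hn hS (RC1 S hn hS p hp2 hpn))

theorem main (hn : 1 ≤ n) (hS : S.IsPrim) : S.IsTriv := by
  rcases Nat.lt_or_ge n 3 with h | h
  · have : n = 1 ∨ n = 2 := by omega
    rcases this with rfl | rfl
    · exact main1 S
    · exact main2 S hS
  · exact main3 S h hS

end Dihedral

/-! ## Part O: the transitivity module of a permutation group with a regular subgroup -/
section Concrete

open MulAction

variable {H : Type*} [Group H] [Fintype H] [DecidableEq H] {G : Type*} [Group G] [MulAction G H]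
variable (ι : H →* G) (hι : ∀ h x : H, ι h • x = h * x)

end Concrete

/-- the statement of S3572 -/
theorem concrete {G Ω : Type*} [Group G] [MulAction G Ω] [Finite Ω]
    (hprim : MulAction.IsPreprimitive G Ω) (D : Subgroup G) (m : ℕ)
    (hD : Nonempty (↥D ≃* DihedralGroup m))
    (hDreg : MulAction.IsPretransitive ↥D Ω ∧ ∀ a : Ω, MulAction.stabilizer ↥D a = ⊥) :
    MulAction.IsMultiplyPretransitive G Ω 2 := by
  refine concrete_of ?_ hprim D m hD hDreg
  intro m _ _ ι hι hprim' x y hx hy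
  exact main (orbSR ι hι) (Nat.pos_of_ne_zero (NeZero.ne m)) (orbSR_prim ι hι hprim') x y hx hy

end Cfsg.Agent.Helper61.Sr
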